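import Groth.Agent.PolyTors.Units
import Groth.Agent.ValTors.Pts
import Mathlib.RingTheory.PolynomialAlgebra

/-!
# Descending the comparison point from the zero section of the affine line over a normal domain
-/

set_option autoImplicit false
set_option linter.style.haveILetI false
set_option linter.unusedSectionVars false
set_option maxSynthPendingDepth 5

universe u

open CategoryTheory CategoryTheory.Limits MonoidalCategory CartesianMonoidalCategory MonObj AlgebraicGeometry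
open _root_.Polynomial hiding C
open scoped TensorProduct
open Groth.Agent.ValTors

noncomputable section

namespace Groth.Agent.PolyTors

attribute [local instance 50] Polynomial.algebra

/-- The ring seen as the zero section of the line. -/
def AtZero (R : Type u) : Type u := R

instance (R : Type u) [CommRing R] : CommRing (AtZero R) := inferInstanceAs (CommRing R)

/-- The evaluation at zero. -/
def ev0 (R : Type u) [CommRing R] : R[X] →+* AtZero R := (Polynomial.evalRingHom 0 : R[X] →+* R)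

/-- The identification with the ring. -/
def ε0 (R : Type u) [CommRing R] : AtZero R ≃+* R := RingEquiv.refl R

instance (R : Type u) [CommRing R] : Algebra R[X] (AtZero R) := (ev0 R).toAlgebra

theorem ev0_surjective (R : Type u) [CommRing R] : Function.Surjective (ev0 R) :=
  fun r => ⟨Polynomial.C r, Polynomial.eval_C⟩

variable {A : Type u} [CommRing A] (C : Type u) [CommRing C] [Algebra A C]

instance (priority := 50) algAtZero : Algebra A[X] (AtZero C) := ((ev0 C).comp (algebraMap A[X] C[X])).toAlgebra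

instance towerAtZero : IsScalarTower A[X] C[X] (AtZero C) := IsScalarTower.of_algebraMap_eq fun _ => rfl

theorem ff_poly [Module.FaithfullyFlat A C] : Module.FaithfullyFlat A[X] C[X] :=
  Module.FaithfullyFlat.of_linearEquiv A[X] (A[X] ⊗[A] C) (Algebra.IsPushout.equiv A A[X] C C[X]).symm.toLinearEquiv

/-- Maps out of the zero section tensored are determined on the second factor. -/
theorem atZero_ext {B T : Type u} [CommRing B] [Algebra A[X] B] [CommRing T] [Algebra A[X] T]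
    (f g : AtZero A ⊗[A[X]] B →ₐ[A[X]] T) (h : f.comp Algebra.TensorProduct.includeRight = g.comp Algebra.TensorProduct.includeRight) :
    f = g := by
  refine Algebra.TensorProduct.ext ?_ h
  refine AlgHom.ext fun k => ?_
  obtain ⟨q, hq⟩ := ev0_surjective A k
  show f (k ⊗ₜ 1) = g (k ⊗ₜ 1)
  rw [← hq, show ev0 A q ⊗ₜ[A[X]] (1 : B) = algebraMap A[X] _ q from rfl, f.commutes, g.commutes]

/-- The only unit which is invariant and one at zero is one. -/
theorem unit_eq_one [IsDomain C] {D : Type u} [CommRing D] [Algebra C[X] D] [Module.FaithfullyFlat C[X] D] (u : Dˣ)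
    (hu : (u : D) ⊗ₜ[C[X]] (1 : D) = 1 ⊗ₜ (u : D)) (h0 : (1 : AtZero C) ⊗ₜ[C[X]] (u : D) = 1) : u = 1 := by
  have hu' : (↑u⁻¹ : D) ⊗ₜ[C[X]] (1 : D) = 1 ⊗ₜ (↑u⁻¹ : D) := by
    refine (u.isUnit.map (Algebra.TensorProduct.includeLeft : D →ₐ[C[X]] D ⊗[C[X]] D)).mul_left_cancel ?_
    show (u : D) ⊗ₜ[C[X]] (1 : D) * _ = (u : D) ⊗ₜ[C[X]] (1 : D) * _
    conv_rhs => rw [hu]
    simp [Algebra.TensorProduct.tmul_mul_tmul]
  obtain ⟨q, hq⟩ := WittExt.Amitsur.exists_of_invariant (A := C[X]) (B := D) hu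
  obtain ⟨q', hq'⟩ := WittExt.Amitsur.exists_of_invariant (A := C[X]) (B := D) hu'
  have hinj := FaithfulSMul.algebraMap_injective C[X] D
  have hunit : IsUnit q := IsUnit.of_mul_eq_one q' (hinj (by rw [map_mul, hq, hq', Units.mul_inv, map_one]))
  obtain ⟨r, hr, rfl⟩ := Polynomial.isUnit_iff.1 hunit
  have h1 : algebraMap (AtZero C) (AtZero C ⊗[C[X]] D) (ev0 C (Polynomial.C r)) = 1 := by
    rw [← h0, ← hq, Algebra.algebraMap_eq_smul_one (Polynomial.C r) (A := D), ← TensorProduct.smul_tmul,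
      Algebra.TensorProduct.algebraMap_apply]
    congr 1
    rw [Algebra.smul_def, _root_.mul_one]
    rfl
  haveI : Module.FaithfullyFlat (AtZero C) (AtZero C ⊗[C[X]] D) := inferInstance
  have h2 : ev0 C (Polynomial.C r) = 1 := FaithfulSMul.algebraMap_injective (AtZero C) (AtZero C ⊗[C[X]] D)
    (h1.trans (map_one _).symm)
  refine Units.ext ?_
  rw [← hq, show r = 1 from (Polynomial.eval_C (a := r) (x := 0)).symm.trans h2, map_one, map_one]
  rfl

/-- Units of the square of the splitting cover which are one at zero are one. -/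
theorem unit_sq_eq_one [IsReduced (C ⊗[A] C)] (u : (C[X] ⊗[A[X]] C[X])ˣ)
    (h : (1 : AtZero A) ⊗ₜ[A[X]] (u : C[X] ⊗[A[X]] C[X]) = 1) : u = 1 := by
  let iL : C →+* C ⊗[A] C := (Algebra.TensorProduct.includeLeft : C →ₐ[A] C ⊗[A] C).toRingHom
  let iR : C →+* C ⊗[A] C := (Algebra.TensorProduct.includeRight : C →ₐ[A] C ⊗[A] C).toRingHom
  have hLR : ∀ a : A, iR (algebraMap A C a) = iL (algebraMap A C a) := fun a =>
    ((Algebra.TensorProduct.includeRight : C →ₐ[A] C ⊗[A] C).commutes a).trans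
      ((Algebra.TensorProduct.includeLeft : C →ₐ[A] C ⊗[A] C).commutes a).symm
  letI : Algebra A[X] (C ⊗[A] C)[X] := ((Polynomial.mapRingHom iL).comp (algebraMap A[X] C[X])).toAlgebra
  let fL : C[X] →ₐ[A[X]] (C ⊗[A] C)[X] := ⟨Polynomial.mapRingHom iL, fun _ => rfl⟩
  let fR : C[X] →ₐ[A[X]] (C ⊗[A] C)[X] := ⟨Polynomial.mapRingHom iR, fun q => by
    show Polynomial.map iR (Polynomial.map (algebraMap A C) q) = Polynomial.map iL (Polynomial.map (algebraMap A C) q)
    rw [Polynomial.map_map, Polynomial.map_map]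
    exact congrArg (fun f => Polynomial.map f q) (RingHom.ext hLR)⟩
  let θ : C[X] ⊗[A[X]] C[X] →ₐ[A[X]] (C ⊗[A] C)[X] := Algebra.TensorProduct.lift fL fR fun _ _ => Commute.all _ _
  let cC : C →+* C[X] := Polynomial.C
  have hcC : ∀ a : A, cC (algebraMap A C a) = algebraMap A[X] C[X] (Polynomial.C a) := fun a =>
    (Polynomial.map_C (algebraMap A C)).symm
  let jL : C →+* C[X] ⊗[A[X]] C[X] := (Algebra.TensorProduct.includeLeft : C[X] →ₐ[A[X]] _).toRingHom.comp cC
  let jR : C →+* C[X] ⊗[A[X]] C[X] := (Algebra.TensorProduct.includeRight : C[X] →ₐ[A[X]] _).toRingHom.comp cC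
  let gL : C →ₐ[A] C[X] ⊗[A[X]] C[X] := ⟨jL, fun a => rfl⟩
  let gR : C →ₐ[A] C[X] ⊗[A[X]] C[X] := ⟨jR, fun a => by
    show (Algebra.TensorProduct.includeRight : C[X] →ₐ[A[X]] _) (cC (algebraMap A C a)) =
      (Algebra.TensorProduct.includeLeft : C[X] →ₐ[A[X]] C[X] ⊗[A[X]] C[X]) (cC (algebraMap A C a))
    rw [hcC, AlgHom.commutes, AlgHom.commutes]⟩
  let g0 : C ⊗[A] C →+* C[X] ⊗[A[X]] C[X] := (Algebra.TensorProduct.lift gL gR fun _ _ => Commute.all _ _).toRingHom
  let ψ : (C ⊗[A] C)[X] →+* C[X] ⊗[A[X]] C[X] := Polynomial.eval₂RingHom g0 (Polynomial.X ⊗ₜ 1)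
  have hψ : ∀ z, ψ (θ z) = z := fun z => by
    induction z using TensorProduct.induction_on with
    | zero => simp
    | add x y hx hy => rw [map_add, map_add, hx, hy]
    | tmul p q =>
      have hp : ∀ p : C[X], ψ (fL p) = p ⊗ₜ 1 := fun p => by
        have e : ψ.comp (Polynomial.mapRingHom iL) =
            (Algebra.TensorProduct.includeLeft : C[X] →ₐ[A[X]] C[X] ⊗[A[X]] C[X]).toRingHom := by
          refine Polynomial.ringHom_ext (fun c => ?_) ?_
          · simp [ψ, g0, iL, gL, gR, jL, jR, cC, Algebra.TensorProduct.one_def]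
          · simp [ψ]
        exact DFunLike.congr_fun e p
      have hq : ∀ q : C[X], ψ (fR q) = 1 ⊗ₜ q := fun q => by
        have hX : (Polynomial.X : C[X]) ⊗ₜ[A[X]] (1 : C[X]) = 1 ⊗ₜ Polynomial.X := by
          have e : (Polynomial.X : C[X]) = algebraMap A[X] C[X] Polynomial.X := (Polynomial.map_X _).symm
          rw [e, Algebra.algebraMap_eq_smul_one, TensorProduct.smul_tmul]
        have e : ψ.comp (Polynomial.mapRingHom iR) =
            (Algebra.TensorProduct.includeRight : C[X] →ₐ[A[X]] C[X] ⊗[A[X]] C[X]).toRingHom := by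
          refine Polynomial.ringHom_ext (fun c => ?_) ?_
          · simp [ψ, g0, iR, gL, gR, jL, jR, cC, Algebra.TensorProduct.one_def]
          · simp [ψ, hX]
        exact DFunLike.congr_fun e q
      rw [show θ (p ⊗ₜ q) = fL p * fR q from Algebra.TensorProduct.lift_tmul _ _ _ _ _, map_mul, hp, hq,
        Algebra.TensorProduct.tmul_mul_tmul, _root_.mul_one, _root_.one_mul]
  obtain ⟨r, hr⟩ : ∃ r, θ (u : C[X] ⊗[A[X]] C[X]) = Polynomial.C r := by
    obtain ⟨-, hn⟩ := Polynomial.isUnit_iff_coeff_isUnit_isNilpotent.1 (u.isUnit.map θ)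
    refine ⟨(θ (u : C[X] ⊗[A[X]] C[X])).coeff 0, Polynomial.ext fun n => ?_⟩
    rw [Polynomial.coeff_C]
    split_ifs with hn0
    · rw [hn0]
    · exact (hn n hn0).eq_zero
  let ev : (C ⊗[A] C)[X] →+* C ⊗[A] C := Polynomial.evalRingHom 0
  letI : Algebra A[X] (C ⊗[A] C) := (ev.comp (algebraMap A[X] (C ⊗[A] C)[X])).toAlgebra
  let eT : (C ⊗[A] C)[X] →ₐ[A[X]] C ⊗[A] C := ⟨ev, fun _ => rfl⟩
  let k : AtZero A →ₐ[A[X]] C ⊗[A] C :=
    ⟨(algebraMap A (C ⊗[A] C)).comp (ε0 A).toRingHom, fun q => by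
      show algebraMap A (C ⊗[A] C) (q.eval 0) = Polynomial.eval 0 (Polynomial.map iL (Polynomial.map (algebraMap A C) q))
      rw [Polynomial.map_map, Polynomial.eval_zero_map, ← Polynomial.coeff_zero_eq_eval_zero]
      rfl⟩
  let φ : AtZero A ⊗[A[X]] (C[X] ⊗[A[X]] C[X]) →ₐ[A[X]] C ⊗[A] C :=
    Algebra.TensorProduct.lift k (eT.comp θ) fun _ _ => Commute.all _ _
  have h1 := congrArg φ h
  rw [map_one, Algebra.TensorProduct.lift_tmul, map_one, _root_.one_mul, AlgHom.comp_apply, hr,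
    show eT (Polynomial.C r) = r from Polynomial.eval_C] at h1
  refine Units.ext ?_
  rw [← hψ (u : C[X] ⊗[A[X]] C[X]), hr, h1, map_one, map_one]
  rfl

section

variable [IsDomain C] [IsIntegrallyClosed C] [Module.FaithfullyFlat A C] [IsReduced (C ⊗[A] C)]
variable {M : Over (Spec (CommRingCat.of A[X]))} [GrpObj M] [IsAffine M.left] {Λ : Type} [AddCommGroup Λ]
  (e : Red.bc (Spec.map (CommRingCat.ofHom (algebraMap A[X] C[X]))) M ≅ Red.DS (Spec (CommRingCat.of C[X])) Λ)
  [IsMonHom e.hom]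
variable {B : Type u} [CommRing B] [Algebra A[X] B] [Module.FaithfullyFlat A[X] B]

local notation "lB" => (Algebra.TensorProduct.includeLeft : B →ₐ[A[X]] B ⊗[A[X]] B)
local notation "rB" => (Algebra.TensorProduct.includeRight : B →ₐ[A[X]] B ⊗[A[X]] B)

include e in
/-- A cocycle which is trivial at zero is trivial. -/
theorem exists_pt (δ : sA (V := A[X]) (B ⊗[A[X]] B) ⟶ M)
    (hδc : am (SGA1Torsor.a13 (A := A[X]) (B := B)) ≫ δ =
      (am (SGA1Torsor.a23 (A := A[X]) (B := B)) ≫ δ) * (am (SGA1Torsor.a12 (A := A[X]) (B := B)) ≫ δ))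
    (τ : sA (V := A[X]) (AtZero A ⊗[A[X]] B) ⟶ M)
    (hτ : (am (Algebra.TensorProduct.includeRight : B ⊗[A[X]] B →ₐ[A[X]] AtZero A ⊗[A[X]] (B ⊗[A[X]] B)) ≫ δ) *
        (am (Algebra.TensorProduct.map (AlgHom.id A[X] (AtZero A)) lB) ≫ τ) =
      am (Algebra.TensorProduct.map (AlgHom.id A[X] (AtZero A)) rB) ≫ τ) :
    ∃ τ' : sA (V := A[X]) B ⟶ M, δ * (am lB ≫ τ') = am rB ≫ τ' := by
  classical
  haveI := ff_poly (A := A) C
  have comm : ∀ {R : Type u} [CommRing R] [Algebra A[X] R] (x y : sA (V := A[X]) R ⟶ M), x * y = y * x :=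
    fun x y => pt_comm e x y
  let D := C[X] ⊗[A[X]] B
  let L := AtZero C
  let iB : B →ₐ[A[X]] D := Algebra.TensorProduct.includeRight
  let lD : D →ₐ[C[X]] D ⊗[C[X]] D := Algebra.TensorProduct.includeLeft
  let rD : D →ₐ[C[X]] D ⊗[C[X]] D := Algebra.TensorProduct.includeRight
  let jD : D →ₐ[C[X]] L ⊗[C[X]] D := Algebra.TensorProduct.includeRight
  let jD2 : D ⊗[C[X]] D →ₐ[C[X]] L ⊗[C[X]] (D ⊗[C[X]] D) := Algebra.TensorProduct.includeRight
  let κL : AtZero A →ₐ[A[X]] L := ⟨((ε0 C).symm.toRingHom.comp (algebraMap A C)).comp (ε0 A).toRingHom, fun q => by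
    show algebraMap A C (q.eval 0) = Polynomial.eval 0 (Polynomial.map (algebraMap A C) q)
    rw [Polynomial.eval_zero_map, ← Polynomial.coeff_zero_eq_eval_zero]⟩
  let q : AtZero A ⊗[A[X]] B →ₐ[A[X]] L ⊗[C[X]] D := Algebra.TensorProduct.lift
    ((Algebra.TensorProduct.includeLeft : L →ₐ[A[X]] L ⊗[C[X]] D).comp κL) ((jD.restrictScalars A[X]).comp iB)
    fun _ _ => Commute.all _ _
  let κ : B ⊗[A[X]] B →ₐ[A[X]] D ⊗[C[X]] D := Algebra.TensorProduct.lift ((lD.restrictScalars A[X]).comp iB)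
    ((rD.restrictScalars A[X]).comp iB) fun _ _ => Commute.all _ _
  let q2 : AtZero A ⊗[A[X]] (B ⊗[A[X]] B) →ₐ[A[X]] L ⊗[C[X]] (D ⊗[C[X]] D) := Algebra.TensorProduct.lift
    ((Algebra.TensorProduct.includeLeft : L →ₐ[A[X]] L ⊗[C[X]] (D ⊗[C[X]] D)).comp κL)
    ((jD2.restrictScalars A[X]).comp κ) fun _ _ => Commute.all (_ : L ⊗[C[X]] (D ⊗[C[X]] D)) _
  let ml : L ⊗[C[X]] D →ₐ[C[X]] L ⊗[C[X]] (D ⊗[C[X]] D) := Algebra.TensorProduct.map (AlgHom.id C[X] L) lD
  let mr : L ⊗[C[X]] D →ₐ[C[X]] L ⊗[C[X]] (D ⊗[C[X]] D) := Algebra.TensorProduct.map (AlgHom.id C[X] L) rD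
  have eql : q2.comp (Algebra.TensorProduct.map (AlgHom.id A[X] (AtZero A)) lB) = (ml.restrictScalars A[X]).comp q :=
    atZero_ext _ _ (AlgHom.ext fun b => by simp [q2, q, ml, κ, iB, lD, jD, jD2])
  have eqr : q2.comp (Algebra.TensorProduct.map (AlgHom.id A[X] (AtZero A)) rB) = (mr.restrictScalars A[X]).comp q :=
    atZero_ext _ _ (AlgHom.ext fun b => by simp [q2, q, mr, κ, iB, rD, jD, jD2])
  have eqc : q2.comp (Algebra.TensorProduct.includeRight : B ⊗[A[X]] B →ₐ[A[X]] AtZero A ⊗[A[X]] (B ⊗[A[X]] B)) =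
      (jD2.restrictScalars A[X]).comp κ := AlgHom.ext fun z => by simp [q2]
  let κ3 : B ⊗[A[X]] (B ⊗[A[X]] B) →ₐ[A[X]] D ⊗[C[X]] (D ⊗[C[X]] D) := Algebra.TensorProduct.lift
    (((Algebra.TensorProduct.includeLeft : D →ₐ[C[X]] D ⊗[C[X]] (D ⊗[C[X]] D)).restrictScalars A[X]).comp iB)
    (((Algebra.TensorProduct.includeRight : D ⊗[C[X]] D →ₐ[C[X]] D ⊗[C[X]] (D ⊗[C[X]] D)).restrictScalars A[X]).comp κ)
    fun _ _ => Commute.all (_ : D ⊗[C[X]] (D ⊗[C[X]] D)) _
  have e13 : κ3.comp SGA1Torsor.a13 = ((SGA1Torsor.a13 (A := C[X]) (B := D)).restrictScalars A[X]).comp κ :=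
    Algebra.TensorProduct.ext' fun a b => by simp [κ3, κ, iB, lD, rD, SGA1Torsor.a13]
  have e12 : κ3.comp SGA1Torsor.a12 = ((SGA1Torsor.a12 (A := C[X]) (B := D)).restrictScalars A[X]).comp κ :=
    Algebra.TensorProduct.ext' fun a b => by simp [κ3, κ, iB, lD, rD, SGA1Torsor.a12]
  have e23 : κ3.comp SGA1Torsor.a23 = ((SGA1Torsor.a23 (A := C[X]) (B := D)).restrictScalars A[X]).comp κ :=
    Algebra.TensorProduct.ext' fun a b => by simp [κ3, κ, iB, lD, rD, SGA1Torsor.a23]
  let χ := P e (L ⊗[C[X]] D) (am q ≫ τ)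
  let gm := P e (D ⊗[C[X]] D) (am κ ≫ δ)
  have hgm : LaurTorus.pushU (C' := D ⊗[C[X]] (D ⊗[C[X]] D)) (SGA1Torsor.a13 (A := C[X]) (B := D)).toRingHom gm =
      LaurTorus.pushU (C' := D ⊗[C[X]] (D ⊗[C[X]] D)) (SGA1Torsor.a23 (A := C[X]) (B := D)).toRingHom gm +
      LaurTorus.pushU (C' := D ⊗[C[X]] (D ⊗[C[X]] D)) (SGA1Torsor.a12 (A := C[X]) (B := D)).toRingHom gm := by
    rw [← P_am e _ (SGA1Torsor.a13 (A := C[X]) (B := D)), ← P_am e _ (SGA1Torsor.a23 (A := C[X]) (B := D)),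
      ← P_am e _ (SGA1Torsor.a12 (A := C[X]) (B := D)), ← P_mul]
    congr 1
    rw [am_comp, am_comp, am_comp, ← e13, ← e12, ← e23, ← am_comp, ← am_comp, ← am_comp, hδc, MonObj.comp_mul]
  have hχ : LaurTorus.pushU (C' := L ⊗[C[X]] (D ⊗[C[X]] D)) mr.toRingHom χ =
      LaurTorus.pushU (C' := L ⊗[C[X]] (D ⊗[C[X]] D)) jD2.toRingHom gm + LaurTorus.pushU (C' := L ⊗[C[X]] (D ⊗[C[X]] D)) ml.toRingHom χ := by
    rw [← P_am e _ mr, ← P_am e _ ml, ← P_am e _ jD2, ← P_mul]
    congr 1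
    rw [am_comp, am_comp, am_comp, ← eql, ← eqr, ← eqc, ← am_comp, ← am_comp, ← am_comp, ← MonObj.comp_mul, hτ]
  have hdec : ∀ n : Λ, ∃ m : Dˣ, ((gm n).toMul : D ⊗[C[X]] D) * ((m : D) ⊗ₜ 1) = 1 ⊗ₜ (m : D) ∧
      (1 : L) ⊗ₜ[C[X]] (m : D) = ((χ n).toMul : L ⊗[C[X]] D) := fun n =>
    exists_unit L (ε0 C) (fun _ => rfl) (gm n).toMul
      (congrArg Units.val (congrArg Additive.toMul (DFunLike.congr_fun hgm n))) (χ n).toMul
      (congrArg Units.val (congrArg Additive.toMul (DFunLike.congr_fun hχ n)))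
  choose m hm₁ hm₂ using hdec
  have hadd : ∀ n n', m (n + n') = m n * m n' := fun n n' => by
    refine mul_inv_eq_one.1 (unit_eq_one C _ ?_ ?_)
    · have h1 : ((gm (n + n')).toMul : D ⊗[C[X]] D) = (gm n).toMul * (gm n').toMul := by
        rw [map_add]; rfl
      let u := m (n + n') * (m n * m n')⁻¹
      have h2 : ((u : D) ⊗ₜ[C[X]] (1 : D)) * (((gm (n + n')).toMul : D ⊗[C[X]] D) * (((m n * m n' : Dˣ) : D) ⊗ₜ 1)) =
          ((1 : D) ⊗ₜ (u : D)) * (((gm (n + n')).toMul : D ⊗[C[X]] D) * (((m n * m n' : Dˣ) : D) ⊗ₜ 1)) := by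
        have h3 : ((gm (n + n')).toMul : D ⊗[C[X]] D) * (((m n * m n' : Dˣ) : D) ⊗ₜ 1) = 1 ⊗ₜ ((m n * m n' : Dˣ) : D) := by
          rw [h1, Units.val_mul, ← _root_.mul_one (1 : D), ← Algebra.TensorProduct.tmul_mul_tmul,
            ← Algebra.TensorProduct.tmul_mul_tmul, _root_.mul_mul_mul_comm, hm₁, hm₁]
        conv_rhs => rw [h3]
        rw [mul_left_comm, Algebra.TensorProduct.tmul_mul_tmul, Algebra.TensorProduct.tmul_mul_tmul, _root_.one_mul,
          ← Units.val_mul, inv_mul_cancel_right, hm₁]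
      exact (((gm (n + n')).toMul.isUnit.mul ((m n * m n').isUnit.map
        (Algebra.TensorProduct.includeLeft : D →ₐ[C[X]] D ⊗[C[X]] D)))).mul_right_cancel h2
    · have h1 : Units.map jD.toMonoidHom (m (n + n')) = Units.map jD.toMonoidHom (m n * m n') := by
        rw [map_mul]
        refine Units.ext ((hm₂ _).trans ?_)
        rw [map_add]
        exact (congrArg₂ (· * ·) (hm₂ n) (hm₂ n')).symm
      have h2 : Units.map jD.toMonoidHom (m (n + n') * (m n * m n')⁻¹) = 1 := by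
        rw [map_mul, map_inv, h1, mul_inv_cancel]
      exact congrArg Units.val h2
  let W : Λ →+ Additive Dˣ := AddMonoidHom.mk' (fun n => Additive.ofMul (m n)) fun n n' =>
    congrArg Additive.ofMul (hadd n n')
  let τD := (P e D).symm W
  have hD : (am κ ≫ δ) * (am (lD.restrictScalars A[X]) ≫ τD) = am (rD.restrictScalars A[X]) ≫ τD := by
    apply (P e (D ⊗[C[X]] D)).injective
    rw [P_mul, P_am, P_am, Equiv.apply_symm_apply]
    exact AddMonoidHom.ext fun n => Additive.toMul.injective (Units.ext (hm₁ n))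
  have hD0 : am (jD.restrictScalars A[X]) ≫ τD = am q ≫ τ := by
    apply (P e (L ⊗[C[X]] D)).injective
    rw [P_am, Equiv.apply_symm_apply]
    exact AddMonoidHom.ext fun n => Additive.toMul.injective (Units.ext (hm₂ n))
  -- independence of the splitting
  let G := C[X] ⊗[A[X]] (B ⊗[A[X]] B)
  let ψ : D ⊗[C[X]] D →ₐ[C[X]] G := Algebra.TensorProduct.lift (Algebra.TensorProduct.map (AlgHom.id C[X] C[X]) lB)
    (Algebra.TensorProduct.map (AlgHom.id C[X] C[X]) rB) fun _ _ => Commute.all _ _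
  let iG : B ⊗[A[X]] B →ₐ[A[X]] G := Algebra.TensorProduct.includeRight
  let gl : D →ₐ[A[X]] G := Algebra.TensorProduct.map (AlgHom.id A[X] C[X]) lB
  let gr : D →ₐ[A[X]] G := Algebra.TensorProduct.map (AlgHom.id A[X] C[X]) rB
  have hG : (am iG ≫ δ) * (am gl ≫ τD) = am gr ≫ τD := by
    have h := congrArg (am (ψ.restrictScalars A[X]) ≫ ·) hD
    simp only [MonObj.comp_mul, am_comp] at h
    have e1 : (ψ.restrictScalars A[X]).comp κ = iG :=
      Algebra.TensorProduct.ext' fun a b => by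
        simp [ψ, κ, iG, iB, lD, rD]
        show ((1 : C[X]) ⊗ₜ[A[X]] (a ⊗ₜ[A[X]] (1 : B))) * ((1 : C[X]) ⊗ₜ[A[X]] ((1 : B) ⊗ₜ[A[X]] b)) = (1 : C[X]) ⊗ₜ[A[X]] (a ⊗ₜ[A[X]] b)
        simp [Algebra.TensorProduct.tmul_mul_tmul]
    have e2 : (ψ.restrictScalars A[X]).comp (lD.restrictScalars A[X]) = gl :=
      Algebra.TensorProduct.ext' fun c b => by simp [ψ, gl, lD] <;> rfl
    have e3 : (ψ.restrictScalars A[X]).comp (rD.restrictScalars A[X]) = gr :=
      Algebra.TensorProduct.ext' fun c b => by simp [ψ, gr, rD] <;> rfl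
    rwa [e1, e2, e3] at h
  let E := C[X] ⊗[A[X]] C[X]
  let F := B ⊗[A[X]] E
  let cm : D →ₐ[A[X]] B ⊗[A[X]] C[X] := (Algebra.TensorProduct.comm A[X] C[X] B).toAlgHom
  let i₁ : D →ₐ[A[X]] F := (Algebra.TensorProduct.map (AlgHom.id A[X] B) Algebra.TensorProduct.includeLeft).comp cm
  let i₂ : D →ₐ[A[X]] F := (Algebra.TensorProduct.map (AlgHom.id A[X] B) Algebra.TensorProduct.includeRight).comp cm
  let fl : F →ₐ[A[X]] (B ⊗[A[X]] B) ⊗[A[X]] E := Algebra.TensorProduct.map lB (AlgHom.id A[X] E)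
  let fr : F →ₐ[A[X]] (B ⊗[A[X]] B) ⊗[A[X]] E := Algebra.TensorProduct.map rB (AlgHom.id A[X] E)
  let x : sA (V := A[X]) F ⟶ M := (am i₁ ≫ τD) * (am i₂ ≫ τD)⁻¹
  have hk : ∀ i : C[X] →ₐ[A[X]] E, let ik := (Algebra.TensorProduct.map (AlgHom.id A[X] B) i).comp cm
      (am (Algebra.TensorProduct.includeLeft : B ⊗[A[X]] B →ₐ[A[X]] (B ⊗[A[X]] B) ⊗[A[X]] E) ≫ δ) * (am (fl.comp ik) ≫ τD) =
        am (fr.comp ik) ≫ τD := by
    intro i ik
    let h' : G →ₐ[A[X]] (B ⊗[A[X]] B) ⊗[A[X]] E :=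
      (Algebra.TensorProduct.map (AlgHom.id A[X] (B ⊗[A[X]] B)) i).comp (Algebra.TensorProduct.comm A[X] C[X] (B ⊗[A[X]] B)).toAlgHom
    have h := congrArg (am h' ≫ ·) hG
    simp only [MonObj.comp_mul, am_comp] at h
    have e1 : h'.comp iG = Algebra.TensorProduct.includeLeft := AlgHom.ext fun z => by
      show z ⊗ₜ[A[X]] i 1 = z ⊗ₜ[A[X]] (1 : E)
      rw [map_one]
    have e2 : h'.comp gl = fl.comp ik := Algebra.TensorProduct.ext' fun c b => rfl
    have e3 : h'.comp gr = fr.comp ik := Algebra.TensorProduct.ext' fun c b => rfl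
    rwa [e1, e2, e3] at h
  have hx : am fl ≫ x = am fr ≫ x := by
    simp only [x, MonObj.comp_mul, GrpObj.comp_inv, am_comp]
    rw [← hk Algebra.TensorProduct.includeLeft, ← hk Algebra.TensorProduct.includeRight, mul_inv_rev,
      ← _root_.mul_assoc (_ * _), _root_.mul_assoc (am _ ≫ δ), comm (am _ ≫ δ), _root_.mul_inv_cancel_right]
  have hy : ∃ y : sA (V := A[X]) E ⟶ M, am (Algebra.TensorProduct.includeRight : E →ₐ[A[X]] F) ≫ y = x := by
    refine exists_factor _ (Module.FaithfullyFlat.tensorProduct_mk_injective (A := A[X]) (B := B) E) x fun z => ?_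
    let cF : F →ₐ[A[X]] E ⊗[A[X]] B := (Algebra.TensorProduct.comm A[X] B E).toAlgHom
    let cF2 : (B ⊗[A[X]] B) ⊗[A[X]] E →ₐ[A[X]] E ⊗[A[X]] (B ⊗[A[X]] B) :=
      (Algebra.TensorProduct.comm A[X] (B ⊗[A[X]] B) E).toAlgHom
    have el : (Algebra.TensorProduct.map (AlgHom.id A[X] E) lB).comp cF = cF2.comp fl :=
      Algebra.TensorProduct.ext' fun b c => by simp [cF, cF2, fl]
    have er : (Algebra.TensorProduct.map (AlgHom.id A[X] E) rB).comp cF = cF2.comp fr :=
      Algebra.TensorProduct.ext' fun b c => by simp [cF, cF2, fr]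
    obtain ⟨a, ha⟩ := exists_base E (cF (coord x z)) (by
      rw [← AlgHom.comp_apply, ← AlgHom.comp_apply, el, er, AlgHom.comp_apply, AlgHom.comp_apply]
      refine congrArg cF2 ?_
      have h := DFunLike.congr_fun (congrArg coord hx) z
      rw [coord_am, coord_am] at h
      exact h.symm)
    refine ⟨a, (Algebra.TensorProduct.comm A[X] B E).injective ?_⟩
    rw [Algebra.TensorProduct.includeRight_apply, Algebra.TensorProduct.comm_tmul]
    exact ha
  obtain ⟨y, hy⟩ := hy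
  let jF : F →ₐ[A[X]] AtZero A ⊗[A[X]] F := Algebra.TensorProduct.includeRight
  let ρ : E →ₐ[C[X]] E := AlgHom.id C[X] E
  have hzero : ∀ i : C[X] →ₐ[A[X]] E, let ik := (Algebra.TensorProduct.map (AlgHom.id A[X] B) i).comp cm
      am (jF.comp ik) ≫ τD = am (Algebra.TensorProduct.map (AlgHom.id A[X] (AtZero A))
        (Algebra.TensorProduct.includeLeft : B →ₐ[A[X]] F)) ≫ τ := by
    intro i ik
    let T := AtZero A ⊗[A[X]] F
    let h := jF.comp ik
    letI : Algebra C[X] T := (h.toRingHom.comp (algebraMap C[X] D)).toAlgebra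
    let hC : D →ₐ[C[X]] T := ⟨h.toRingHom, fun _ => rfl⟩
    have hX : algebraMap C[X] T Polynomial.X = 0 := by
      have e : (Polynomial.X : C[X]) = algebraMap A[X] C[X] Polynomial.X := (Polynomial.map_X _).symm
      show h (algebraMap C[X] D Polynomial.X) = 0
      rw [e, ← IsScalarTower.algebraMap_apply, h.commutes]
      show ev0 A Polynomial.X ⊗ₜ[A[X]] (1 : F) = 0
      rw [show ev0 A Polynomial.X = 0 from Polynomial.eval_X, TensorProduct.zero_tmul]
    let l : L →ₐ[C[X]] T := ⟨((algebraMap C[X] T).comp Polynomial.C).comp (ε0 C).toRingHom, fun p => by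
      have e : ((algebraMap C[X] T).comp Polynomial.C).comp (Polynomial.evalRingHom 0) = algebraMap C[X] T :=
        Polynomial.ringHom_ext (fun c => by simp) (by simp [hX])
      exact DFunLike.congr_fun e p⟩
    let φ : L ⊗[C[X]] D →ₐ[C[X]] T := Algebra.TensorProduct.lift l hC fun _ _ => Commute.all _ _
    let φ' : L ⊗[C[X]] D →ₐ[A[X]] T := ⟨φ.toRingHom, fun v => by
      show φ (algebraMap A[X] _ v) = _
      rw [IsScalarTower.algebraMap_apply A[X] C[X] (L ⊗[C[X]] D), φ.commutes]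
      show h (algebraMap C[X] D (algebraMap A[X] C[X] v)) = _
      rw [← IsScalarTower.algebraMap_apply, h.commutes]⟩
    have e1 : φ'.comp (jD.restrictScalars A[X]) = h := AlgHom.ext fun d => by
      show φ ((1 : L) ⊗ₜ d) = h d
      rw [Algebra.TensorProduct.lift_tmul, map_one, _root_.one_mul]
      rfl
    have e2 : φ'.comp q = Algebra.TensorProduct.map (AlgHom.id A[X] (AtZero A))
        (Algebra.TensorProduct.includeLeft : B →ₐ[A[X]] F) := atZero_ext _ _ (AlgHom.ext fun b => by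
      have hq : q ((1 : AtZero A) ⊗ₜ b) = (jD.restrictScalars A[X]) (iB b) := by
        simp [q]
        exact _root_.one_mul _
      show φ' (q ((1 : AtZero A) ⊗ₜ b)) = _
      rw [hq, ← AlgHom.comp_apply, e1]
      show (1 : AtZero A) ⊗ₜ[A[X]] (b ⊗ₜ[A[X]] i 1) = (1 : AtZero A) ⊗ₜ[A[X]] (b ⊗ₜ[A[X]] (1 : E))
      rw [map_one])
    show am h ≫ τD = _
    rw [← e1, ← am_comp, hD0, am_comp, e2]
  have hy1 : y = 1 := by
    apply (P e E).injective
    rw [P_one]
    refine AddMonoidHom.ext fun n => Additive.toMul.injective (unit_sq_eq_one C _ ?_)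
    have h1 : am jF ≫ x = 1 := by
      simp only [x, MonObj.comp_mul, GrpObj.comp_inv, am_comp]
      rw [hzero Algebra.TensorProduct.includeLeft, hzero Algebra.TensorProduct.includeRight, mul_inv_cancel]
    let σ : AtZero A ⊗[A[X]] E →ₐ[A[X]] AtZero A ⊗[A[X]] F :=
      Algebra.TensorProduct.map (AlgHom.id A[X] (AtZero A)) Algebra.TensorProduct.includeRight
    have hσ : Function.Injective σ := by
      have h2 := Module.FaithfullyFlat.tensorProduct_mk_injective (A := A[X]) (B := B) (AtZero A ⊗[A[X]] E)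
      let sw : AtZero A ⊗[A[X]] F ≃ₗ[A[X]] B ⊗[A[X]] (AtZero A ⊗[A[X]] E) := TensorProduct.leftComm A[X] (AtZero A) B E
      have e : ∀ z, sw (σ z) = TensorProduct.mk A[X] B (AtZero A ⊗[A[X]] E) 1 z := fun z => by
        induction z using TensorProduct.induction_on with
        | zero => simp
        | tmul k v => simp [sw, σ, F]
        | add a b ha hb => rw [map_add, map_add, map_add, ha, hb]
      exact fun a b hab => h2 (by rw [← e, ← e, hab])
    let jE : E →ₐ[A[X]] AtZero A ⊗[A[X]] E := Algebra.TensorProduct.includeRight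
    have h3 : am jE ≫ y = 1 := by
      refine pt_injective σ hσ ?_
      show am σ ≫ am jE ≫ y = am σ ≫ 1
      rw [MonObj.comp_one, ← h1, ← hy, am_comp, am_comp]
      rfl
    letI : Algebra C[X] (AtZero A ⊗[A[X]] E) := (jE.toRingHom.comp (algebraMap C[X] E)).toAlgebra
    haveI : IsScalarTower A[X] C[X] (AtZero A ⊗[A[X]] E) := IsScalarTower.of_algebraMap_eq fun v => by
      show _ = jE (algebraMap C[X] E (algebraMap A[X] C[X] v))
      rw [← IsScalarTower.algebraMap_apply, jE.commutes]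
    let jE' : E →ₐ[C[X]] AtZero A ⊗[A[X]] E := ⟨jE.toRingHom, fun _ => rfl⟩
    have h4 := P_am e (R := E) jE' y
    rw [show jE'.restrictScalars A[X] = jE from rfl, h3, P_one] at h4
    exact (congrArg Units.val (congrArg Additive.toMul (DFunLike.congr_fun h4 n))).symm
  have hxx : am i₁ ≫ τD = am i₂ ≫ τD := by
    rw [hy1, MonObj.comp_one] at hy
    exact mul_inv_eq_one.1 hy.symm
  obtain ⟨τ', hτ'⟩ := exists_factor iB (Module.FaithfullyFlat.tensorProduct_mk_injective (A := A[X]) (B := C[X]) B) τD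
    fun z => by
      have h := DFunLike.congr_fun (congrArg coord hxx) z
      rw [coord_am, coord_am] at h
      obtain ⟨a, ha⟩ := exists_base B (cm (coord τD z)) h.symm
      refine ⟨a, (Algebra.TensorProduct.comm A[X] C[X] B).injective ?_⟩
      show cm (1 ⊗ₜ a) = _
      exact ha
  refine ⟨τ', pt_injective iG (Module.FaithfullyFlat.tensorProduct_mk_injective (A := A[X]) (B := C[X]) (B ⊗[A[X]] B)) ?_⟩
  show am iG ≫ (δ * (am lB ≫ τ')) = am iG ≫ am rB ≫ τ'
  have el : gl.comp iB = iG.comp lB := AlgHom.ext fun b => rfl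
  have er : gr.comp iB = iG.comp rB := AlgHom.ext fun b => rfl
  rw [MonObj.comp_mul, am_comp, am_comp, ← el, ← er, ← am_comp, ← am_comp, hτ', hG]

end

end Groth.Agent.PolyTors
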