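import Groth.Agent.LaurTorus.TrivPic
import Groth.Agent.PicLau88.Traverso
import Mathlib

/-!
# Unit cocycles over a polynomial ring of a normal domain, normalised at zero
-/

set_option autoImplicit false
set_option linter.style.haveILetI false
set_option linter.unusedSectionVars false

universe u

open Polynomial
open scoped TensorProduct

noncomputable section

namespace Groth.Agent.PolyTors

open LaurTorus SGA1Torsor

/-- The elements trivialising a unit cocycle form an invertible module. -/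
theorem invertible_trivSub {A : Type u} [CommRing A] {B : Type u} [CommRing B] [Algebra A B]
    [Module.FaithfullyFlat A B] (c : (B ⊗[A] B)ˣ)
    (hc : a13 (c : B ⊗[A] B) = a23 (c : B ⊗[A] B) * a12 (c : B ⊗[A] B)) :
    Module.Invertible A (trivSub (c : B ⊗[A] B)) := by
  classical
  have hc' : a13 (↑c⁻¹ : B ⊗[A] B) = a23 (↑c⁻¹ : B ⊗[A] B) * a12 (↑c⁻¹ : B ⊗[A] B) := by
    have e : Units.map (a13 (A := A) (B := B)).toMonoidHom c =
        Units.map (a23 (A := A) (B := B)).toMonoidHom c * Units.map (a12 (A := A) (B := B)).toMonoidHom c :=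
      Units.ext hc
    have e' : Units.map (a13 (A := A) (B := B)).toMonoidHom c⁻¹ =
        Units.map (a23 (A := A) (B := B)).toMonoidHom c⁻¹ * Units.map (a12 (A := A) (B := B)).toMonoidHom c⁻¹ := by
      rw [map_inv, map_inv, map_inv, e, mul_inv_rev]
      exact CommMonoid.mul_comm (M := (B ⊗[A] (B ⊗[A] B))ˣ) _ _
    exact congrArg Units.val e'
  let M := trivSub (c : B ⊗[A] B)
  let N := trivSub ((↑c⁻¹ : B ⊗[A] B))
  have hMN : ∀ m ∈ M, ∀ n ∈ N, ∃ a : A, algebraMap A B a = m * n := fun m hm n hn => by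
    refine WittExt.Amitsur.exists_of_invariant ?_
    have h1 := congrArg₂ (· * ·) (mem_trivSub.1 hm) (mem_trivSub.1 hn)
    simp only [mul_mul_mul_comm _ (m ⊗ₜ[A] (1 : B)), Units.mul_inv, _root_.one_mul, Algebra.TensorProduct.tmul_mul_tmul,
      _root_.mul_one] at h1
    exact h1
  let I : Ideal A := Ideal.span {a | ∃ m ∈ M, ∃ n ∈ N, algebraMap A B a = m * n}
  have hI : I = ⊤ := by
    have hle : Ideal.span (M : Set B) * Ideal.span (N : Set B) ≤ I.map (algebraMap A B) := by
      rw [Ideal.span_mul_span', Ideal.span_le]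
      intro z hz
      obtain ⟨m, hm, n, hn, rfl⟩ := Set.mem_mul.1 hz
      obtain ⟨a, ha⟩ := hMN m hm n hn
      show m * n ∈ _
      rw [← ha]
      exact Ideal.mem_map_of_mem _ (Ideal.subset_span ⟨m, hm, n, hn, ha⟩)
    rw [span_trivSub c hc, span_trivSub c⁻¹ hc', Ideal.top_mul] at hle
    have := congrArg (Ideal.comap (algebraMap A B)) (top_le_iff.1 hle)
    rwa [Ideal.comap_map_eq_self_of_faithfullyFlat, Ideal.comap_top] at this
  obtain ⟨s, hs⟩ : ∃ s : M ⊗[A] N, TensorProduct.lift ((LinearMap.mul A B).compl₁₂ M.subtype N.subtype) s = 1 := by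
    have : I ≤ Submodule.comap (Algebra.linearMap A B)
        (LinearMap.range (TensorProduct.lift ((LinearMap.mul A B).compl₁₂ M.subtype N.subtype))) := by
      rw [Ideal.span_le]
      rintro a ⟨m, hm, n, hn, ha⟩
      exact ⟨⟨m, hm⟩ ⊗ₜ ⟨n, hn⟩, ha.symm⟩
    simpa using this (hI ▸ Submodule.mem_top : (1 : A) ∈ I)
  let mu0 : M ⊗[A] N →ₗ[A] B := TensorProduct.lift ((LinearMap.mul A B).compl₁₂ M.subtype N.subtype)
  have hinj : Function.Injective (algebraMap A B) := FaithfulSMul.algebraMap_injective A B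
  have hrange : ∀ x, mu0 x ∈ LinearMap.range (Algebra.linearMap A B) := fun x => by
    induction x using TensorProduct.induction_on with
    | zero => simp
    | tmul m n => exact hMN m m.2 n n.2
    | add x y hx hy => rw [map_add]; exact add_mem hx hy
  let e₀ : A ≃ₗ[A] LinearMap.range (Algebra.linearMap A B) := LinearEquiv.ofInjective _ hinj
  let F : M ⊗[A] N →ₗ[A] A := e₀.symm.toLinearMap.comp (mu0.codRestrict _ hrange)
  have hF : ∀ x, algebraMap A B (F x) = mu0 x := fun x =>
    congrArg Subtype.val (e₀.apply_symm_apply ⟨mu0 x, hrange x⟩)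
  have key : ∀ x, F x • s = x := fun x => by
    induction x using TensorProduct.induction_on with
    | zero => simp
    | tmul m n =>
      have : ∀ t : M ⊗[A] N, F (m ⊗ₜ n) • t = F t • (m ⊗ₜ n) := fun t => by
        induction t using TensorProduct.induction_on with
        | zero => simp
        | tmul m' n' =>
          have e1 : F (m ⊗ₜ n) • m' = F (m' ⊗ₜ n) • m := Subtype.ext (by
            simp only [Submodule.coe_smul, Algebra.smul_def, hF]
            simp [mu0]
            ring)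
          have e2 : F (m' ⊗ₜ n) • n' = F (m' ⊗ₜ n') • n := Subtype.ext (by
            simp only [Submodule.coe_smul, Algebra.smul_def, hF]
            simp [mu0]
            ring)
          rw [TensorProduct.smul_tmul', e1, TensorProduct.smul_tmul, e2, TensorProduct.tmul_smul]
        | add t t' h h' => rw [smul_add, h, h', map_add, add_smul]
      rw [this, show F s = 1 from hinj (by rw [hF, map_one]; exact hs), one_smul]
    | add x y hx hy => rw [map_add, add_smul, hx, hy]
  have hFs : F s = 1 := hinj (by rw [hF, map_one]; exact hs)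
  exact Module.Invertible.left (LinearEquiv.ofLinear F (LinearMap.toSpanSingleton A _ s)
    (LinearMap.ext_ring (by simp [hFs])) (LinearMap.ext fun x => by simp [key]))

/-- Integrally closed domains are seminormal. -/
theorem isSeminormal (R : Type u) [CommRing R] [IsDomain R] [IsIntegrallyClosed R] : HTop.IsSeminormalRing R := by
  intro x y h
  have huniq : ∀ a b : R, a ^ 2 = b ^ 2 → a ^ 3 = b ^ 3 → a = b := fun a b h2 h3 => by
    rcases eq_or_ne a 0 with rfl | ha
    · exact (pow_eq_zero_iff (n := 2) (by norm_num)).1 (by simpa using h2.symm) |>.symm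
    · exact mul_left_cancel₀ (pow_ne_zero 2 ha) (by rw [← pow_succ, h3, h2, ← pow_succ])
  rcases eq_or_ne x 0 with rfl | hx
  · have hy : y = 0 := (pow_eq_zero_iff (n := 2) (by norm_num)).1 (by simpa using h.symm)
    subst hy
    exact ⟨0, by simp, fun b hb => (pow_eq_zero_iff (n := 2) (by norm_num)).1 hb.1.symm⟩
  let K := FractionRing R
  have hxK : algebraMap R K x ≠ 0 := fun h0 => hx (IsFractionRing.injective R K (h0.trans (map_zero _).symm))
  let z : K := algebraMap R K y / algebraMap R K x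
  have hz2 : z ^ 2 = algebraMap R K x := by
    rw [div_pow, div_eq_iff (pow_ne_zero _ hxK), ← map_pow, ← h, map_pow]; ring
  have hz3 : z ^ 3 = algebraMap R K y := by
    rw [pow_succ, hz2]; simp only [z]; rw [mul_div_cancel₀ _ hxK]
  obtain ⟨a, ha⟩ := IsIntegrallyClosed.isIntegral_iff.1
    (IsIntegral.of_pow (n := 2) (by norm_num) (hz2 ▸ isIntegral_algebraMap) : IsIntegral R z)
  have ha2 : x = a ^ 2 := IsFractionRing.injective R K (by rw [map_pow, ha, hz2])
  have ha3 : y = a ^ 3 := IsFractionRing.injective R K (by rw [map_pow, ha, hz3])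
  exact ⟨a, ⟨ha2, ha3⟩, fun b hb => huniq b a (hb.1.symm.trans ha2) (hb.2.symm.trans ha3)⟩

variable {C : Type u} [CommRing C] [IsDomain C]

/-- Near each prime an invertible module over the polynomial ring has a generator. -/
theorem exists_gen [IsIntegrallyClosed C] (p : Ideal C) [p.IsPrime] (M : Type u) [AddCommGroup M] [Module C[X] M]
    [Module.Invertible C[X] M] :
    ∃ e : M, ∀ x : M, ∃ t : C, t ∉ p ∧ ∃ q : C[X], Polynomial.C t • x = q • e := by
  let Cp := Localization.AtPrime p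
  haveI : IsIntegrallyClosed Cp := isIntegrallyClosed_of_isLocalization Cp p.primeCompl p.primeCompl_le_nonZeroDivisors
  letI : Algebra C[X] Cp[X] := (Polynomial.mapRingHom (algebraMap C Cp)).toAlgebra
  let S : Submonoid C[X] := p.primeCompl.map (Polynomial.C : C →+* C[X])
  haveI : IsLocalization S Cp[X] := Polynomial.isLocalization p.primeCompl Cp
  let f : M →ₗ[C[X]] Cp[X] ⊗[C[X]] M := TensorProduct.mk C[X] Cp[X] M 1
  haveI : IsLocalizedModule S f := (isLocalizedModule_iff_isBaseChange S Cp[X] f).2 (TensorProduct.isBaseChange _ _ _)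
  haveI := PicLau88.free_polynomial_of_seminormal (isSeminormal Cp) (Cp[X] ⊗[C[X]] M)
  obtain ⟨g⟩ := (Module.Invertible.free_iff_linearEquiv (R := Cp[X]) (M := Cp[X] ⊗[C[X]] M)).1 inferInstance
  obtain ⟨⟨e, s⟩, hs⟩ := IsLocalizedModule.surj S f (g.symm 1)
  refine ⟨e, fun x => ?_⟩
  obtain ⟨⟨q, r⟩, hr⟩ := IsLocalization.surj S (g (f x))
  have hx : f x = g (f x) • g.symm 1 := by rw [← map_smul, smul_eq_mul, _root_.mul_one, g.symm_apply_apply]
  have key : f ((r : C[X]) • (s : C[X]) • x) = f (q • e) := by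
    rw [map_smul, map_smul, map_smul, ← hs, Submonoid.smul_def, hx,
      ← algebraMap_smul Cp[X] (r : C[X]), ← algebraMap_smul Cp[X] (s : C[X]), ← algebraMap_smul Cp[X] q,
      ← algebraMap_smul Cp[X] (s : C[X]) (g.symm 1), smul_smul, smul_smul, smul_smul, ← hr]
    congr 1
    ring
  obtain ⟨u, hu⟩ := (IsLocalizedModule.eq_iff_exists S f).1 key
  rw [Submonoid.smul_def, Submonoid.smul_def, smul_smul, smul_smul, smul_smul] at hu
  obtain ⟨t, ht, htu⟩ := Submonoid.mem_map.1 (S.mul_mem (S.mul_mem u.2 r.2) s.2)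
  exact ⟨t, ht, (u : C[X]) * q, by rw [show Polynomial.C t = _ from htu]; exact hu⟩

/-- An element fixed by both maps comes from the base. -/
theorem exists_base {R : Type u} [CommRing R] (L : Type u) [CommRing L] [Algebra R L] {D : Type u} [CommRing D]
    [Algebra R D] [Module.FaithfullyFlat R D] (z : L ⊗[R] D)
    (h : Algebra.TensorProduct.map (AlgHom.id R L) (Algebra.TensorProduct.includeRight : D →ₐ[R] D ⊗[R] D) z =
      Algebra.TensorProduct.map (AlgHom.id R L) (Algebra.TensorProduct.includeLeft : D →ₐ[R] D ⊗[R] D) z) :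
    ∃ a : L, algebraMap L (L ⊗[R] D) a = z := by
  let i₁ : L ⊗[R] D →ₐ[R] (L ⊗[R] D) ⊗[L] (L ⊗[R] D) :=
    (Algebra.TensorProduct.includeLeft : L ⊗[R] D →ₐ[L] (L ⊗[R] D) ⊗[L] (L ⊗[R] D)).restrictScalars R
  let i₂ : L ⊗[R] D →ₐ[R] (L ⊗[R] D) ⊗[L] (L ⊗[R] D) :=
    (Algebra.TensorProduct.includeRight : L ⊗[R] D →ₐ[L] (L ⊗[R] D) ⊗[L] (L ⊗[R] D)).restrictScalars R
  let j : D →ₐ[R] L ⊗[R] D := Algebra.TensorProduct.includeRight
  let θ : L ⊗[R] (D ⊗[R] D) →ₐ[R] (L ⊗[R] D) ⊗[L] (L ⊗[R] D) := Algebra.TensorProduct.lift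
    (i₁.comp ((Algebra.TensorProduct.includeLeft : L →ₐ[R] L ⊗[R] D)))
    (Algebra.TensorProduct.lift (i₁.comp j) (i₂.comp j) fun _ _ => Commute.all _ _) fun _ _ => Commute.all _ _
  have e₁ : θ.comp (Algebra.TensorProduct.map (AlgHom.id R L) Algebra.TensorProduct.includeLeft) = i₁ := by
    refine Algebra.TensorProduct.ext' fun l d => ?_
    simp [θ, i₁, i₂, j, Algebra.TensorProduct.one_def]
  have e₂ : θ.comp (Algebra.TensorProduct.map (AlgHom.id R L) Algebra.TensorProduct.includeRight) = i₂ := by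
    refine Algebra.TensorProduct.ext' fun l d => ?_
    simp [θ, i₁, i₂, j]
    rw [show l ⊗ₜ[R] d = l • ((1 : L) ⊗ₜ[R] d) by rw [TensorProduct.smul_tmul', smul_eq_mul, _root_.mul_one],
      show l ⊗ₜ[R] (1 : D) = l • (1 : L ⊗[R] D) by rw [Algebra.TensorProduct.one_def, TensorProduct.smul_tmul', smul_eq_mul, _root_.mul_one],
      ← TensorProduct.smul_tmul]
  have h' := congrArg θ h
  rw [← AlgHom.comp_apply, ← AlgHom.comp_apply, e₁, e₂] at h'
  exact WittExt.Amitsur.exists_of_invariant (A := L) (B := L ⊗[R] D) h'.symm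

/-- A cocycle trivial at zero is a coboundary, with prescribed value at zero. -/
theorem exists_unit [IsIntegrallyClosed C] (L : Type u) [CommRing L] [Algebra C[X] L] (ε : L ≃+* C)
    (hε : ∀ q, ε (algebraMap C[X] L q) = q.eval 0)
    {D : Type u} [CommRing D] [Algebra C[X] D] [Module.FaithfullyFlat C[X] D]
    (gm : (D ⊗[C[X]] D)ˣ) (hc : a13 (gm : D ⊗[C[X]] D) = a23 (gm : D ⊗[C[X]] D) * a12 (gm : D ⊗[C[X]] D))
    (w : (L ⊗[C[X]] D)ˣ)
    (hw : Algebra.TensorProduct.map (AlgHom.id C[X] L) (Algebra.TensorProduct.includeRight : D →ₐ[C[X]] D ⊗[C[X]] D) (w : L ⊗[C[X]] D) =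
      (1 : L) ⊗ₜ (gm : D ⊗[C[X]] D) *
        Algebra.TensorProduct.map (AlgHom.id C[X] L) (Algebra.TensorProduct.includeLeft : D →ₐ[C[X]] D ⊗[C[X]] D) (w : L ⊗[C[X]] D)) :
    ∃ m : Dˣ, (gm : D ⊗[C[X]] D) * ((m : D) ⊗ₜ 1) = 1 ⊗ₜ (m : D) ∧ (1 : L) ⊗ₜ[C[X]] (m : D) = w := by
  classical
  haveI := invertible_trivSub gm hc
  let M := trivSub (gm : D ⊗[C[X]] D)
  let ml := Algebra.TensorProduct.map (AlgHom.id C[X] L) (Algebra.TensorProduct.includeLeft : D →ₐ[C[X]] D ⊗[C[X]] D)
  let mr := Algebra.TensorProduct.map (AlgHom.id C[X] L) (Algebra.TensorProduct.includeRight : D →ₐ[C[X]] D ⊗[C[X]] D)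
  -- values at zero
  have hval : ∀ x ∈ M, ∃ a : C, (1 : L) ⊗ₜ[C[X]] x = algebraMap L (L ⊗[C[X]] D) (ε.symm a) * w := by
    intro x hx
    have hmx : ((1 : L) ⊗ₜ[C[X]] (gm : D ⊗[C[X]] D)) * ml ((1 : L) ⊗ₜ x) = mr ((1 : L) ⊗ₜ x) := by
      simp only [ml, mr, Algebra.TensorProduct.map_tmul, Algebra.TensorProduct.tmul_mul_tmul, _root_.mul_one,
        AlgHom.id_apply, Algebra.TensorProduct.includeLeft_apply, Algebra.TensorProduct.includeRight_apply]
      rw [mem_trivSub.1 hx]
    let z := (1 : L) ⊗ₜ[C[X]] x * (↑w⁻¹ : L ⊗[C[X]] D)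
    obtain ⟨a, ha⟩ := exists_base L z (by
      show mr z = ml z
      refine (w.isUnit.map mr).mul_left_inj.1 ?_
      rw [← map_mul, show z * (w : L ⊗[C[X]] D) = (1 : L) ⊗ₜ x by simp [z, mul_assoc],
        show mr (w : L ⊗[C[X]] D) = _ from hw, ← hmx, mul_left_comm, ← map_mul,
        show z * (w : L ⊗[C[X]] D) = (1 : L) ⊗ₜ x by simp [z, mul_assoc]])
    exact ⟨ε a, by rw [ε.symm_apply_apply, ha]; simp [z, mul_assoc]⟩
  choose val hval using hval
  have hsmul : ∀ (q : C[X]) (x : D) (a : C), (1 : L) ⊗ₜ[C[X]] x = algebraMap L (L ⊗[C[X]] D) (ε.symm a) * w →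
      (1 : L) ⊗ₜ[C[X]] (q • x) = algebraMap L (L ⊗[C[X]] D) (ε.symm (q.eval 0 * a)) * w := fun q x a h => by
    rw [TensorProduct.tmul_smul, h, map_mul, map_mul, ← hε q, ε.symm_apply_apply, ← IsScalarTower.algebraMap_apply,
      Algebra.smul_def, _root_.mul_assoc]
  have hinjL : Function.Injective (algebraMap L (L ⊗[C[X]] D)) := FaithfulSMul.algebraMap_injective L _
  have huniq : ∀ a b : C, algebraMap L (L ⊗[C[X]] D) (ε.symm a) * w = algebraMap L (L ⊗[C[X]] D) (ε.symm b) * w → a = b :=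
    fun a b h => ε.symm.injective (hinjL ((Units.mul_left_inj w).1 h))
  -- generators near primes
  choose e he using fun p : MaximalSpectrum C => exists_gen (C := C) p.asIdeal M
  let a : MaximalSpectrum C → C := fun p => val (e p) (e p).2
  have ha : ∀ p, (1 : L) ⊗ₜ[C[X]] (e p : D) = algebraMap L (L ⊗[C[X]] D) (ε.symm (a p)) * w := fun p => hval _ (e p).2
  have hdiv : ∀ p : MaximalSpectrum C, ∃ t : C, t ∉ p.asIdeal ∧ ∃ d : D, algebraMap C[X] D (Polynomial.C t) = e p * d := by
    intro p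
    let J : Submodule D D :=
      { carrier := {y | ∃ t : C, t ∉ p.asIdeal ∧ ∃ d : D, algebraMap C[X] D (Polynomial.C t) * y = e p * d}
        zero_mem' := ⟨1, (Ideal.ne_top_iff_one _).1 p.isMaximal.ne_top, 0, by simp⟩
        add_mem' := by
          rintro y y' ⟨t, ht, d, hd⟩ ⟨t', ht', d', hd'⟩
          exact ⟨t * t', p.isMaximal.isPrime.mul_notMem ht ht', algebraMap C[X] D (Polynomial.C t') * d +
            algebraMap C[X] D (Polynomial.C t) * d', by
              rw [map_mul, map_mul]; linear_combination algebraMap C[X] D (Polynomial.C t') * hd + algebraMap C[X] D (Polynomial.C t) * hd'⟩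
        smul_mem' := by
          rintro b y ⟨t, ht, d, hd⟩
          exact ⟨t, ht, b * d, by rw [smul_eq_mul]; linear_combination b * hd⟩ }
    have hJ : Ideal.span (M : Set D) ≤ J := Ideal.span_le.2 fun x hx => by
      obtain ⟨t, ht, q, hq⟩ := he p ⟨x, hx⟩
      refine ⟨t, ht, algebraMap C[X] D q, ?_⟩
      rw [← Algebra.smul_def, mul_comm _ (algebraMap C[X] D q), ← Algebra.smul_def]
      exact congrArg Subtype.val hq
    rw [span_trivSub gm hc] at hJ
    obtain ⟨t, ht, d, hd⟩ := hJ (Submodule.mem_top : (1 : D) ∈ ⊤)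
    exact ⟨t, ht, d, by rwa [_root_.mul_one] at hd⟩
  choose t ht d hd using hdiv
  have hreg : ∀ (p : MaximalSpectrum C) (q : C[X]), q • (e p : D) = 0 → q = 0 := fun p q hq => by
    have h1 : algebraMap C[X] D (q * Polynomial.C (t p)) = 0 := by
      rw [map_mul, hd, ← _root_.mul_assoc, ← Algebra.smul_def, hq, zero_mul]
    rcases mul_eq_zero.1 ((map_eq_zero_iff _ (FaithfulSMul.algebraMap_injective C[X] D)).1 h1) with h | h
    · exact h
    · exact absurd (Polynomial.C_eq_zero.1 h) fun h0 => ht p (h0 ▸ zero_mem _)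
  have htor : ∀ (c : C) (x : D), c ≠ 0 → Polynomial.C c • x = 0 → x = 0 := fun c x hc0 hx => by
    have := Module.Flat.isSMulRegular_of_isRegular (R := C[X]) (M := D)
      (IsRegular.of_ne_zero (Polynomial.C_ne_zero.2 hc0))
    exact this (by simpa using hx)
  -- compatibility
  have hcomp : ∀ p p', Polynomial.C (a p') • (e p : D) = Polynomial.C (a p) • (e p' : D) := by
    intro p p'
    obtain ⟨s, hs, q, hq⟩ := he p (e p')
    obtain ⟨s', hs', q', hq'⟩ := he p' (e p)
    have hq1 : Polynomial.C s • (e p' : D) = q • (e p : D) := congrArg Subtype.val hq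
    have hq2 : Polynomial.C s' • (e p : D) = q' • (e p' : D) := congrArg Subtype.val hq'
    have hs0 : s ≠ 0 := fun h0 => hs (h0 ▸ zero_mem _)
    have hs0' : s' ≠ 0 := fun h0 => hs' (h0 ▸ zero_mem _)
    have h3 : (Polynomial.C s' * Polynomial.C s - q' * q) • (e p : D) = 0 := by
      rw [sub_smul, mul_smul, smul_comm, hq2, smul_comm, hq1, mul_smul, sub_self]
    have h4 : Polynomial.C s' * Polynomial.C s = q' * q := sub_eq_zero.1 (hreg p _ h3)
    obtain ⟨r, hr⟩ : ∃ r, q = Polynomial.C r := by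
      refine ⟨q.coeff 0, Polynomial.eq_C_of_natDegree_eq_zero ?_⟩
      have h5 := congrArg Polynomial.natDegree h4
      have hne : q' * q ≠ 0 := h4 ▸ mul_ne_zero (Polynomial.C_ne_zero.2 hs0') (Polynomial.C_ne_zero.2 hs0)
      rw [← map_mul, Polynomial.natDegree_C, Polynomial.natDegree_mul (left_ne_zero_of_mul hne)
        (right_ne_zero_of_mul hne)] at h5
      omega
    subst hr
    have h6 : s * a p' = r * a p := huniq _ _ (by
      have h7 := hsmul (Polynomial.C s) _ _ (ha p')
      rw [hq1, hsmul (Polynomial.C r) _ _ (ha p), Polynomial.eval_C, Polynomial.eval_C] at h7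
      exact h7.symm)
    refine sub_eq_zero.1 (htor s _ hs0 ?_)
    rw [smul_sub, smul_comm (Polynomial.C s) (Polynomial.C (a p)) (e p' : D), hq1, smul_smul, smul_smul, ← map_mul,
      ← map_mul, h6, mul_comm r, sub_self]
  have ha0 : ∀ p, a p ∉ p.asIdeal := by
    intro p hp
    have h1 := congrArg (fun y : D => (1 : L) ⊗ₜ[C[X]] y) (hd p)
    rw [show (1 : L) ⊗ₜ[C[X]] (algebraMap C[X] D (Polynomial.C (t p))) = algebraMap L (L ⊗[C[X]] D) (ε.symm (t p)) by
      rw [Algebra.algebraMap_eq_smul_one, ← TensorProduct.smul_tmul, Algebra.TensorProduct.algebraMap_apply,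
        Algebra.smul_def, _root_.mul_one]
      congr 1
      apply ε.injective
      rw [hε, Algebra.algebraMap_self, RingHom.id_apply, ε.apply_symm_apply, Polynomial.eval_C],
      ← _root_.one_mul (1 : L), ← Algebra.TensorProduct.tmul_mul_tmul, ha, _root_.mul_assoc] at h1
    have h2 : algebraMap L (L ⊗[C[X]] D) (ε.symm (t p)) ∈
        (Ideal.span {ε.symm (a p)}).map (algebraMap L (L ⊗[C[X]] D)) := by
      rw [h1, Ideal.map_span, Set.image_singleton, Ideal.mem_span_singleton]
      exact Dvd.intro _ rfl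
    have h3 := (Ideal.mem_comap.2 h2 : ε.symm (t p) ∈ _)
    rw [Ideal.comap_map_eq_self_of_faithfullyFlat, Ideal.mem_span_singleton] at h3
    obtain ⟨k, hk⟩ := h3
    exact ht p (by
      rw [← ε.apply_symm_apply (t p), hk, map_mul, ε.apply_symm_apply]
      exact p.asIdeal.mul_mem_right _ hp)
  have htop : Ideal.span (Set.range a) = ⊤ := by
    by_contra h
    obtain ⟨P, hP, hle⟩ := Ideal.exists_le_maximal _ h
    exact ha0 ⟨P, hP⟩ (hle (Ideal.subset_span ⟨_, rfl⟩))
  obtain ⟨k, hk⟩ := Finsupp.mem_span_range_iff_exists_finsupp.1 (htop ▸ Submodule.mem_top : (1 : C) ∈ Ideal.span (Set.range a))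
  let m : D := ∑ p ∈ k.support, Polynomial.C (k p) • (e p : D)
  have hm : m ∈ M := sum_mem fun p _ => M.smul_mem _ (e p).2
  have hmq : ∀ p, Polynomial.C (a p) • m = (e p : D) := fun p => by
    rw [Finset.smul_sum]
    calc ∑ x ∈ k.support, Polynomial.C (a p) • Polynomial.C (k x) • (e x : D)
        = ∑ x ∈ k.support, Polynomial.C (k x * a x) • (e p : D) := Finset.sum_congr rfl fun x _ => by
          rw [smul_comm, ← hcomp p x, smul_smul, map_mul]
      _ = (e p : D) := by
          rw [← Finset.sum_smul, ← map_sum, show ∑ x ∈ k.support, k x * a x = 1 from hk, map_one, one_smul]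
  have hunit : IsUnit m := by
    rw [← Ideal.span_singleton_eq_top]
    by_contra h
    obtain ⟨P, hP, hle⟩ := Ideal.exists_le_maximal _ h
    let p₀ := P.comap ((algebraMap C[X] D).comp (Polynomial.C : C →+* C[X]))
    obtain ⟨p, hp, hpl⟩ := Ideal.exists_le_maximal p₀ (Ideal.comap_ne_top _ hP.ne_top)
    refine ht ⟨p, hp⟩ (hpl ?_)
    show algebraMap C[X] D (Polynomial.C (t ⟨p, hp⟩)) ∈ P
    rw [hd, ← hmq, Algebra.smul_def]
    exact P.mul_mem_right _ (P.mul_mem_left _ (hle (Ideal.mem_span_singleton_self m)))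
  refine ⟨hunit.unit, mem_trivSub.1 hm, ?_⟩
  show (1 : L) ⊗ₜ[C[X]] m = _
  rw [TensorProduct.tmul_sum]
  have : ∀ p ∈ k.support, (1 : L) ⊗ₜ[C[X]] (Polynomial.C (k p) • (e p : D)) =
      algebraMap L (L ⊗[C[X]] D) (ε.symm (k p * a p)) * w := fun p _ => by
    rw [hsmul _ _ _ (ha p), Polynomial.eval_C]
  rw [Finset.sum_congr rfl this, ← Finset.sum_mul, ← map_sum, ← map_sum,
    show ∑ p ∈ k.support, k p * a p = 1 from hk, map_one, map_one, _root_.one_mul]

end Groth.Agent.PolyTors
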